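import Mathlib.AlgebraicGeometry.Birational.RationalMap
import Mathlib.AlgebraicGeometry.Morphisms.FiniteType

/-!
Two morphisms over `S` to a scheme locally of finite type over `S` which agree on the spectrum of a
local ring agree near the point (no germ-injectivity hypothesis).
-/

set_option autoImplicit false
universe u
open CategoryTheory AlgebraicGeometry

namespace Groth.Agent.RatMapLib

theorem exists_opens_eq_of_stalk {S X Y : Scheme.{u}} (π : Y ⟶ S) [LocallyOfFiniteType π]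
    (f g : X ⟶ Y) (hfg : f ≫ π = g ≫ π) {x : X} (e : f x = g x)
    (H : f.stalkMap x =
      Y.presheaf.stalkSpecializes (Inseparable.of_eq e.symm).specializes ≫ g.stalkMap x) :
    ∃ (U : X.Opens), x ∈ U ∧ U.ι ≫ f = U.ι ≫ g := by
  obtain ⟨_, ⟨W : S.Opens, hW, rfl⟩, hxW, -⟩ :=
    S.isBasis_affineOpens.exists_subset_of_mem_open (Set.mem_univ (π (f x))) isOpen_univ
  obtain ⟨_, ⟨V : Y.Opens, hV, rfl⟩, hxV, hVW⟩ :=
    Y.isBasis_affineOpens.exists_subset_of_mem_open (show f x ∈ (π ⁻¹ᵁ W : Y.Opens) from hxW)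
      (π ⁻¹ᵁ W).2
  have hxV' : g x ∈ V := e ▸ hxV
  let U : X.Opens := f ⁻¹ᵁ V ⊓ g ⁻¹ᵁ V
  have hxU : x ∈ U := ⟨hxV, hxV'⟩
  have hft := LocallyOfFiniteType.finiteType_appLE π hW hV hVW
  letI := (π.appLE W V hVW).hom.toAlgebra
  obtain ⟨s, hs⟩ := hft
  have hg : ∀ a : Γ(Y, V), ∃ (U' : X.Opens) (_ : x ∈ U') (h : U' ≤ U),
      f.appLE V U' (h.trans inf_le_left) a = g.appLE V U' (h.trans inf_le_right) a := by
    intro a
    have h1 : f.appLE V U inf_le_left ≫ X.presheaf.germ U x hxU =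
        g.appLE V U inf_le_right ≫ X.presheaf.germ U x hxU := by
      simp only [Scheme.Hom.appLE, Category.assoc, X.presheaf.germ_res', ← Scheme.Hom.germ_stalkMap, H]
      simp only [TopCat.Presheaf.germ_stalkSpecializes_assoc, Scheme.Hom.germ_stalkMap]
    obtain ⟨U', hxU', i₁, i₂, he⟩ := X.presheaf.germ_eq x hxU hxU _ _ (ConcreteCategory.congr_hom h1 a)
    refine ⟨U', hxU', i₁.le, ?_⟩
    rw [← Scheme.Hom.appLE_map f inf_le_left i₁.op, ← Scheme.Hom.appLE_map g inf_le_right i₁.op]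
    obtain rfl : i₁ = i₂ := Subsingleton.elim _ _
    exact he
  choose U' hxU' hU' hU'eq using hg
  let T : X.Opens := s.inf U' ⊓ U
  have hxT : x ∈ T := by
    refine ⟨?_, hxU⟩
    rw [TopologicalSpace.Opens.coe_finset_inf]
    simpa using fun a _ => hxU' a
  have hTU : T ≤ U := inf_le_right
  refine ⟨T, hxT, ?_⟩
  rw [← Scheme.Hom.resLE_comp_ι f (hTU.trans inf_le_left),
    ← Scheme.Hom.resLE_comp_ι g (hTU.trans inf_le_right)]
  congr 1
  have hkey : f.appLE V T (hTU.trans inf_le_left) = g.appLE V T (hTU.trans inf_le_right) := by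
    have hbase : π.appLE W V hVW ≫ f.appLE V T (hTU.trans inf_le_left) =
        π.appLE W V hVW ≫ g.appLE V T (hTU.trans inf_le_right) := by
      rw [Scheme.Hom.appLE_comp_appLE, Scheme.Hom.appLE_comp_appLE]
      simp only [hfg]
    letI := (π.appLE W V hVW ≫ f.appLE V T (hTU.trans inf_le_left)).hom.toAlgebra
    let A : Γ(Y, V) →ₐ[Γ(S, W)] Γ(X, T) :=
      { (f.appLE V T (hTU.trans inf_le_left)).hom with commutes' := fun _ => rfl }
    let B : Γ(Y, V) →ₐ[Γ(S, W)] Γ(X, T) :=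
      { (g.appLE V T (hTU.trans inf_le_right)).hom with
        commutes' := fun r => (ConcreteCategory.congr_hom hbase r).symm }
    have hAB : A = B := by
      refine AlgHom.ext_of_adjoin_eq_top hs fun a ha => ?_
      have hT : T ≤ U' a := inf_le_left.trans (Finset.inf_le ha)
      show f.appLE V T _ a = g.appLE V T _ a
      rw [← Scheme.Hom.appLE_map f ((hU' a).trans inf_le_left) (homOfLE hT).op,
        ← Scheme.Hom.appLE_map g ((hU' a).trans inf_le_right) (homOfLE hT).op]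
      simp only [CommRingCat.comp_apply, hU'eq a]
    ext a
    exact DFunLike.congr_fun hAB a
  have : IsAffine V := hV
  suffices ∀ (U₀ V₀) (eU : T = U₀) (eV : V = V₀),
      f.appLE V₀ U₀ (eU ▸ eV ▸ hTU.trans inf_le_left) =
        g.appLE V₀ U₀ (eU ▸ eV ▸ hTU.trans inf_le_right) by
    rw [← cancel_mono V.toScheme.isoSpec.hom]
    simp only [Scheme.isoSpec, asIso_hom, Scheme.toSpecΓ_naturality,
      Scheme.Hom.app_eq_appLE, Scheme.Hom.resLE_appLE]
    congr 2
    apply this <;> simp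
  rintro U₀ V₀ rfl rfl
  exact hkey

theorem exists_opens_eq_of_fromSpecStalk {S X Y : Scheme.{u}} (π : Y ⟶ S) [LocallyOfFiniteType π]
    (f g : X ⟶ Y) (hfg : f ≫ π = g ≫ π) {x : X}
    (e : X.fromSpecStalk x ≫ f = X.fromSpecStalk x ≫ g) :
    ∃ (U : X.Opens), x ∈ U ∧ U.ι ≫ f = U.ι ≫ g := by
  fapply exists_opens_eq_of_stalk π f g hfg
  · simpa using congr($e (IsLocalRing.closedPoint _))
  · apply Spec.map_injective
    rw [← cancel_mono (Y.fromSpecStalk _)]
    simpa [Scheme.SpecMap_stalkSpecializes_fromSpecStalk]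

end Groth.Agent.RatMapLib
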